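import Mathlib

/-! Characteristic polynomials of endomorphisms of finite modules over a domain. -/

set_option autoImplicit false
universe u

open TensorProduct

namespace Groth.Agent.NormLib

variable (A : Type u) [CommRing A] (K : Type u) [Field K] [Algebra A K] (E : Type u) [AddCommGroup E] [Module A E]
  [Module.Finite A E]

theorem aeval_baseChange (L : Type u) [CommRing L] [Algebra A L] (u : E →ₗ[A] E) (p : Polynomial A) :
    Polynomial.aeval (u.baseChange L) p = (Polynomial.aeval u p).baseChange L :=
  Polynomial.aeval_algHom_apply (Module.End.baseChangeHom A L E) u p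

theorem isIntegral_charpoly_coeff (u : E →ₗ[A] E) (i : ℕ) :
    IsIntegral A (((u.baseChange K).charpoly).coeff i) := by
  obtain ⟨p, hp, hpu⟩ := LinearMap.exists_monic_and_aeval_eq_zero A u
  let L := AlgebraicClosure K
  have h1 : Polynomial.aeval (u.baseChange K) (p.map (algebraMap A K)) = 0 := by
    rw [Polynomial.aeval_map_algebraMap, aeval_baseChange, hpu, LinearMap.baseChange_zero]
  refine (isIntegral_algHom_iff (IsScalarTower.toAlgHom A K L) (algebraMap K L).injective).mp ?_
  rw [IsScalarTower.coe_toAlgHom', ← Polynomial.coeff_map]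
  refine Polynomial.isIntegral_coeff_of_factors _ ?_ (IsAlgClosed.splits _) ?_ i
  · rw [((u.baseChange K).charpoly_monic.map _).leadingCoeff]; exact isIntegral_one
  · intro x hx
    rw [← LinearMap.charpoly_baseChange] at hx
    obtain ⟨v, hv⟩ := (Module.End.hasEigenvalue_iff_isRoot_charpoly (f := (u.baseChange K).baseChange L) (μ := x)).mpr hx |>.exists_hasEigenvector
    have h2 : Polynomial.aeval ((u.baseChange K).baseChange L) ((p.map (algebraMap A K)).map (algebraMap K L)) = 0 := by
      rw [Polynomial.aeval_map_algebraMap, aeval_baseChange K (K ⊗[A] E) L, h1, LinearMap.baseChange_zero]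
    have h3 := Module.End.aeval_apply_of_hasEigenvector (p := (p.map (algebraMap A K)).map (algebraMap K L)) hv
    rw [h2, LinearMap.zero_apply, eq_comm, smul_eq_zero] at h3
    refine ⟨p, hp, ?_⟩
    have h4 := h3.resolve_right hv.2
    rwa [Polynomial.map_map, ← IsScalarTower.algebraMap_eq, Polynomial.eval_map] at h4

end Groth.Agent.NormLib
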